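import Groth.Agent.Lib.GlueH7.Glueable
import Mathlib.RingTheory.Flat.Equalizer
import Mathlib.RingTheory.Flat.Stability
import Mathlib.RingTheory.Flat.Tensor
import Mathlib.RingTheory.Flat.Localization
import Mathlib.LinearAlgebra.DirectSum.Finsupp
import Mathlib.Algebra.Module.FinitePresentation
import Mathlib.Algebra.Module.LocalizedModule.Exact

/-!
Flatness over a glueing pair.
-/

universe u

open TensorProduct

namespace Groth.Agent.GlueH7

variable {R R' : Type u} [CommRing R] [CommRing R'] [Algebra R R'] {f : R}

/-- `M → (R' ⊗ M) × M_f` is injective. -/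
def InjPair (R' : Type u) [CommRing R'] [Algebra R R'] (f : R) (M : Type u) [AddCommGroup M] [Module R M] : Prop :=
  ∀ m : M, (∃ n : ℕ, f ^ n • m = 0) → (1 : R') ⊗ₜ[R] m = 0 → m = 0

/-- Every compatible pair comes from the module, with no condition on the module. -/
theorem exists_glue (h : EtGlue.IsGlueingPair R R' f) {X : Type u} [AddCommGroup X] [Module R X]
    {x : R' ⊗[R] X} {n : ℕ} {q : X} (hx : ∃ k, f ^ k • (f ^ n • x - (1 : R') ⊗ₜ[R] q) = 0) :
    ∃ y : X, (1 : R') ⊗ₜ[R] y = x ∧ ∃ k, f ^ k • (f ^ n • y - q) = 0 := by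
  obtain ⟨k, hk⟩ := hx
  rw [smul_sub, sub_eq_zero, smul_smul, ← pow_add, ← TensorProduct.tmul_smul] at hk
  obtain ⟨m₀, hm₀⟩ := mem_smul_of_one_tmul h.1 hk.symm
  obtain ⟨t, ⟨j, hj⟩, htx⟩ := exists_torsion_of_glueingPair h (n := k + n) (z := x - (1 : R') ⊗ₜ[R] m₀)
    (by rw [smul_sub, hk, ← TensorProduct.tmul_smul, hm₀, sub_self])
  refine ⟨m₀ + t, by rw [TensorProduct.tmul_add, htx, add_sub_cancel], j + k, ?_⟩
  have h2 : f ^ (j + k) • f ^ n • t = 0 := by
    rw [smul_smul, ← pow_add, show j + k + n = (k + n) + j by omega, pow_add, mul_smul, hj, smul_zero]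
  rw [smul_add, add_sub_right_comm, smul_add, h2, add_zero, pow_add, mul_smul, smul_sub, smul_smul,
    ← pow_add, ← hm₀, sub_self, smul_zero]

theorem injPair_submodule (h : EtGlue.IsGlueingPair R R' f) (J : Submodule R R) : InjPair R' f J := by
  rintro j ⟨n, hn⟩ hj
  have h1 : algebraMap R R' (j : R) = 0 := by
    have := congrArg (fun z => TensorProduct.rid R R' (J.subtype.lTensor R' z)) hj
    simpa [Algebra.smul_def] using this
  refine Subtype.ext ((h.2.1) (Prod.ext ?_ ?_))
  · show algebraMap R R' (j : R) = algebraMap R R' 0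
    rw [h1, map_zero]
  · show algebraMap R (Localization.Away f) (j : R) = algebraMap R (Localization.Away f) 0
    rw [map_zero, IsLocalization.map_eq_zero_iff (Submonoid.powers f)]
    exact ⟨⟨f ^ n, n, rfl⟩, congrArg Subtype.val hn⟩

/-- An element killed by tensoring with `Q → Q_f` is `f`-power torsion. -/
theorem torsion_of_lTensor_mk {X Q : Type u} [AddCommGroup X] [Module R X] [AddCommGroup Q] [Module R Q]
    {z : X ⊗[R] Q} (hz : (LocalizedModule.mkLinearMap (Submonoid.powers f) Q).lTensor X z = 0) :
    ∃ n, f ^ n • z = 0 := by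
  let g := TensorProduct.AlgebraTensorModule.rTensor R X (LocalizedModule.mkLinearMap (Submonoid.powers f) Q)
  have h0 : g (TensorProduct.comm R X Q z) = 0 := by
    have key : ∀ w : X ⊗[R] Q, g (TensorProduct.comm R X Q w) =
        TensorProduct.comm R X _ ((LocalizedModule.mkLinearMap (Submonoid.powers f) Q).lTensor X w) := by
      intro w
      induction w using TensorProduct.induction_on with
      | zero => simp
      | tmul a b => simp [g]
      | add a b ha hb => simp only [map_add, ha, hb]
    rw [key, hz, map_zero]
  obtain ⟨⟨_, n, rfl⟩, hn⟩ := (IsLocalizedModule.eq_zero_iff (Submonoid.powers f) g).1 h0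
  refine ⟨n, (TensorProduct.comm R X Q).injective ?_⟩
  rw [map_smul, map_zero]
  exact hn

variable {M : Type u} [AddCommGroup M] [Module R M]

theorem flat_loc (M : Type u) [AddCommGroup M] [Module R M]
    [Module.Flat (Localization.Away f) (LocalizedModule (Submonoid.powers f) M)] :
    Module.Flat R (LocalizedModule (Submonoid.powers f) M) :=
  have : Module.Flat R (Localization.Away f) := IsLocalization.flat _ (Submonoid.powers f)
  Module.Flat.trans R (Localization.Away f) _

/-- If `M_f` is flat and `0 → Q → G → M → 0` is exact, kernel elements of `X ⊗ Q → X ⊗ G` are torsion. -/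
theorem torsion_of_lTensor_eq_zero [Module.Flat (Localization.Away f) (LocalizedModule (Submonoid.powers f) M)]
    {G Q : Type u} [AddCommGroup G] [Module R G] [AddCommGroup Q] [Module R Q]
    (p : G →ₗ[R] M) (hp : Function.Surjective p) (i : Q →ₗ[R] G) (hi : Function.Injective i)
    (hex : Function.Exact i p) (X : Type u) [AddCommGroup X] [Module R X]
    {z : X ⊗[R] Q} (hz : i.lTensor X z = 0) : ∃ n, f ^ n • z = 0 := by
  have := flat_loc (f := f) M
  refine torsion_of_lTensor_mk ?_
  set S := Submonoid.powers f
  let iL := IsLocalizedModule.map S (LocalizedModule.mkLinearMap S Q) (LocalizedModule.mkLinearMap S G) i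
  have hinj := LinearMap.lTensor_injective_of_exact_of_flat
    (IsLocalizedModule.map S (LocalizedModule.mkLinearMap S G) (LocalizedModule.mkLinearMap S M) p)
    (IsLocalizedModule.map_surjective S _ _ p hp) iL
    (IsLocalizedModule.map_injective S _ _ i hi)
    (IsLocalizedModule.map_exact S _ _ _ i p hex) X
  apply hinj
  have hc : iL.comp (LocalizedModule.mkLinearMap S Q) = (LocalizedModule.mkLinearMap S G).comp i :=
    LinearMap.ext fun q => IsLocalizedModule.map_apply S _ _ i q
  rw [map_zero, ← LinearMap.comp_apply, ← LinearMap.lTensor_comp, hc, LinearMap.lTensor_comp,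
    LinearMap.comp_apply, hz, map_zero]

theorem injPair_free {P : Type u} [AddCommGroup P] [Module R P] (hP : InjPair R' f P) (ι : Type u) :
    InjPair R' f (P ⊗[R] (ι →₀ R)) := by
  classical
  intro e he h1
  apply (TensorProduct.finsuppScalarRight R R P ι).injective
  rw [map_zero]
  ext i
  let c : P ⊗[R] (ι →₀ R) →ₗ[R] P :=
    (Finsupp.lapply i).comp (TensorProduct.finsuppScalarRight R R P ι).toLinearMap
  show c e = 0
  obtain ⟨n, hn⟩ := he
  refine hP _ ⟨n, by rw [← map_smul, hn, map_zero]⟩ ?_
  have := congrArg (c.lTensor R') h1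
  simpa using this

theorem injPair_tensor_aux (h : EtGlue.IsGlueingPair R R' f) {P : Type u} [AddCommGroup P] [Module R P]
    [Module.Flat (Localization.Away f) (LocalizedModule (Submonoid.powers f) M)]
    {G Q : Type u} [AddCommGroup G] [Module R G] [AddCommGroup Q] [Module R Q]
    (p : G →ₗ[R] M) (hp : Function.Surjective p) (i : Q →ₗ[R] G) (hi : Function.Injective i)
    (hex : Function.Exact i p) (hG : InjPair R' f (P ⊗[R] G)) : InjPair R' f (P ⊗[R] M) := by
  intro x hx h1
  obtain ⟨e, rfl⟩ := LinearMap.lTensor_surjective P hp x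
  obtain ⟨n, hn⟩ := hx
  rw [← map_smul] at hn
  obtain ⟨q, hq⟩ := (lTensor_exact P hex hp _).1 hn
  have hw0 : (p.lTensor P).lTensor R' ((1 : R') ⊗ₜ[R] e) = 0 := h1
  obtain ⟨w, hw⟩ := (lTensor_exact R' (lTensor_exact P hex hp) (LinearMap.lTensor_surjective P hp) _).1 hw0
  have h2 : (i.lTensor P).lTensor R' (f ^ n • w - (1 : R') ⊗ₜ[R] q) = 0 := by
    rw [map_sub, map_smul, hw, LinearMap.lTensor_tmul, hq, TensorProduct.tmul_smul, sub_self]
  have h3 : ∃ k, f ^ k • (f ^ n • w - (1 : R') ⊗ₜ[R] q) = 0 := by
    let a := (TensorProduct.assoc R R' P Q).symm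
    have key : ∀ v, i.lTensor (R' ⊗[R] P) (a v) =
        (TensorProduct.assoc R R' P G).symm ((i.lTensor P).lTensor R' v) := by
      intro v
      induction v using TensorProduct.induction_on with
      | zero => simp
      | tmul r t =>
        induction t using TensorProduct.induction_on with
        | zero => simp
        | tmul s l => simp [a]
        | add u v hu hv => simp only [TensorProduct.tmul_add, map_add, hu, hv]
      | add u v hu hv => simp only [map_add, hu, hv]
    have hz : i.lTensor (R' ⊗[R] P) (a (f ^ n • w - (1 : R') ⊗ₜ[R] q)) = 0 := by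
      rw [key, h2, map_zero]
    obtain ⟨k, hk⟩ := torsion_of_lTensor_eq_zero (f := f) p hp i hi hex _ hz
    exact ⟨k, a.injective (by rw [map_smul, hk, map_zero])⟩
  obtain ⟨y, hy, k, hk⟩ := exists_glue h h3
  have he : e = i.lTensor P y := by
    rw [← sub_eq_zero]
    refine hG _ ⟨k + n, ?_⟩ ?_
    · have := congrArg (i.lTensor P) hk
      rw [map_smul, map_sub, map_smul, map_zero, hq, ← smul_sub, smul_smul, ← pow_add] at this
      rw [← neg_sub, smul_neg, this, neg_zero]
    · rw [TensorProduct.tmul_sub, sub_eq_zero, ← hw, ← hy, LinearMap.lTensor_tmul]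
  rw [he, ← LinearMap.comp_apply, ← LinearMap.lTensor_comp, hex.linearMap_comp_eq_zero,
    LinearMap.lTensor_zero, LinearMap.zero_apply]

theorem injPair_tensor (h : EtGlue.IsGlueingPair R R' f) {P : Type u} [AddCommGroup P] [Module R P]
    (hP : InjPair R' f P) (M : Type u) [AddCommGroup M] [Module R M]
    [Module.Flat (Localization.Away f) (LocalizedModule (Submonoid.powers f) M)] :
    InjPair R' f (P ⊗[R] M) := by
  let p : (M →₀ R) →ₗ[R] M := Finsupp.linearCombination R id
  have hp : Function.Surjective p := fun m => ⟨Finsupp.single m 1, by simp [p]⟩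
  exact injPair_tensor_aux h (G := M →₀ R) (Q := ↥(LinearMap.ker p)) p hp (LinearMap.ker p).subtype
    (LinearMap.ker p).injective_subtype
    (LinearMap.exact_subtype_ker_map p) (injPair_free hP M)

theorem injPair_of_flat_loc (h : EtGlue.IsGlueingPair R R' f) (M : Type u) [AddCommGroup M] [Module R M]
    [Module.Flat (Localization.Away f) (LocalizedModule (Submonoid.powers f) M)] : InjPair R' f M := by
  rintro m ⟨n, hn⟩ h1
  have hR : InjPair R' f R := fun r hr h0 => by
    obtain ⟨k, hk⟩ := hr
    have := injPair_submodule (R' := R') h ⊤ ⟨r, trivial⟩ ⟨k, Subtype.ext hk⟩ ?_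
    · exact congrArg Subtype.val this
    · have := congrArg ((LinearMap.codRestrict (⊤ : Submodule R R) LinearMap.id (fun _ => trivial)).lTensor R') h0
      simp only [LinearMap.lTensor_tmul, map_zero] at this
      exact this
  have := injPair_tensor h hR M ((TensorProduct.lid R M).symm m) ⟨n, by rw [← map_smul, hn, map_zero]⟩ ?_
  · simpa using congrArg (TensorProduct.lid R M) this
  · have := congrArg ((TensorProduct.lid R M).symm.toLinearMap.lTensor R') h1
    simpa using this

theorem flat_of_pair (h : EtGlue.IsGlueingPair R R' f) (M : Type u) [AddCommGroup M] [Module R M]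
    [Module.Flat R' (R' ⊗[R] M)]
    [Module.Flat (Localization.Away f) (LocalizedModule (Submonoid.powers f) M)] : Module.Flat R M := by
  rw [Module.Flat.iff_rTensor_injective']
  intro J
  rw [injective_iff_map_eq_zero]
  intro x hx
  have htor : ∃ n, f ^ n • x = 0 := by
    have := flat_loc (f := f) M
    refine torsion_of_lTensor_mk (Module.Flat.rTensor_preserves_injective_linearMap J.subtype J.injective_subtype ?_)
    rw [map_zero, ← LinearMap.comp_apply, LinearMap.rTensor_comp_lTensor, ← LinearMap.lTensor_comp_rTensor,
      LinearMap.comp_apply, hx, map_zero]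
  refine injPair_tensor h (injPair_submodule h J) M x htor ?_
  obtain ⟨n, hn⟩ := htor
  let e : ∀ (Y : Type u) [AddCommGroup Y] [Module R Y],
      (R' ⊗[R] Y) ⊗[R'] (R' ⊗[R] M) ≃ₗ[R'] R' ⊗[R] (Y ⊗[R] M) := fun Y _ _ =>
    TensorProduct.AlgebraTensorModule.cancelBaseChange R R' R' (R' ⊗[R] Y) M ≪≫ₗ
      TensorProduct.AlgebraTensorModule.assoc R R R' R' Y M
  let μ : R' ⊗[R] J →ₗ[R'] R' ⊗[R] J := algebraMap R R' (f ^ n) • LinearMap.id
  have hμ : ∀ u : (R' ⊗[R] J) ⊗[R'] (R' ⊗[R] M), μ.rTensor (R' ⊗[R] M) u = algebraMap R R' (f ^ n) • u := by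
    intro u
    rw [show μ = algebraMap R R' (f ^ n) • LinearMap.id from rfl, LinearMap.rTensor_smul, LinearMap.rTensor_id, LinearMap.smul_apply, LinearMap.id_apply]
  set z := (e J).symm ((1 : R') ⊗ₜ[R] x) with hz
  have hμz : μ.rTensor (R' ⊗[R] M) z = 0 := by
    rw [hμ, hz, ← map_smul, IsScalarTower.algebraMap_smul, ← TensorProduct.tmul_smul, hn,
      TensorProduct.tmul_zero, map_zero]
  have hexμ : Function.Exact (LinearMap.ker μ).subtype μ := LinearMap.exact_subtype_ker_map μ
  obtain ⟨w, hw⟩ := (Module.Flat.rTensor_exact (R := R') (R' ⊗[R] M) (N := ↥(LinearMap.ker μ)) hexμ _).1 hμz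
  let g := (J.subtype.baseChange R').comp (LinearMap.ker μ).subtype
  have hg : Function.Injective g := by
    rw [injective_iff_map_eq_zero]
    rintro ⟨t, ht⟩ h0
    have ht' : f ^ n • t = 0 := by
      have : algebraMap R R' (f ^ n) • t = 0 := ht
      rwa [IsScalarTower.algebraMap_smul] at this
    obtain ⟨j, hj, rfl⟩ := exists_torsion_of_glueingPair h ht'
    have h0' : algebraMap R R' (j : R) = 0 := by
      have := congrArg (TensorProduct.rid R R') h0
      simpa [g, Algebra.smul_def] using this
    have : j = 0 := by
      refine injPair_submodule h J j hj ?_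
      obtain ⟨k, hk⟩ := hj
      have hjR : (j : R) = 0 := h.2.1 (Prod.ext (by
          show algebraMap R R' (j : R) = algebraMap R R' 0
          rw [h0', map_zero]) (by
          show algebraMap R (Localization.Away f) (j : R) = algebraMap R (Localization.Away f) 0
          rw [map_zero, IsLocalization.map_eq_zero_iff (Submonoid.powers f)]
          exact ⟨⟨f ^ k, k, rfl⟩, congrArg Subtype.val hk⟩))
      rw [show j = 0 from Subtype.ext hjR, TensorProduct.tmul_zero]
    simp [this]
  have hginj := Module.Flat.rTensor_preserves_injective_linearMap (M := R' ⊗[R] M) g hg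
  have key : ∀ u, e R ((J.subtype.baseChange R').rTensor (R' ⊗[R] M) u) =
      (J.subtype.rTensor M).lTensor R' (e J u) := by
    intro u
    induction u using TensorProduct.induction_on with
    | zero => simp
    | tmul a b =>
      induction a using TensorProduct.induction_on with
      | zero => simp
      | tmul r j =>
        induction b using TensorProduct.induction_on with
        | zero => simp
        | tmul s m => simp [e, TensorProduct.smul_tmul']
        | add c d hc hd => simp only [TensorProduct.tmul_add, map_add, hc, hd]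
      | add c d hc hd => simp only [TensorProduct.add_tmul, map_add, hc, hd]
    | add a b ha hb => simp only [map_add, ha, hb]
  have hw0 : w = 0 := by
    apply hginj
    rw [map_zero, show g = (J.subtype.baseChange R').comp (LinearMap.ker μ).subtype from rfl,
      LinearMap.rTensor_comp, LinearMap.comp_apply, hw]
    apply (e R).injective
    rw [key, hz, LinearEquiv.apply_symm_apply, map_zero, LinearMap.lTensor_tmul, hx, TensorProduct.tmul_zero]
  rw [hw0, map_zero] at hw
  exact (e J).symm.injective (by rw [← hz, ← hw, map_zero])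

theorem finitePresentation_of_pair (h : EtGlue.IsGlueingPair R R' f) (M : Type u) [AddCommGroup M] [Module R M]
    [Module.Flat R' (R' ⊗[R] M)] [Module.FinitePresentation R' (R' ⊗[R] M)]
    [Module.Flat (Localization.Away f) (LocalizedModule (Submonoid.powers f) M)]
    [Module.FinitePresentation (Localization.Away f) (LocalizedModule (Submonoid.powers f) M)] :
    Module.FinitePresentation R M := by
  classical
  haveI := finite_of_pair (M := M) h.1
  haveI := flat_of_pair h M
  obtain ⟨a, p, hp⟩ := Module.Finite.exists_fin' R M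
  refine Module.finitePresentation_of_surjective p hp ?_
  let K := LinearMap.ker p
  let S := Submonoid.powers f
  have hex := LinearMap.exact_subtype_ker_map p
  haveI : Module.Finite R' (R' ⊗[R] K) := by
    have hinj : Function.Injective (K.subtype.baseChange R') :=
      LinearMap.lTensor_injective_of_exact_of_flat p hp K.subtype K.injective_subtype hex R'
    have hfg : (LinearMap.ker (p.baseChange R')).FG :=
      Module.FinitePresentation.fg_ker (p.baseChange R') (LinearMap.lTensor_surjective R' hp)
    have hr : LinearMap.range (K.subtype.baseChange R') = LinearMap.ker (p.baseChange R') :=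
      ((LinearMap.exact_iff (f := K.subtype.baseChange R') (g := p.baseChange R')).1
        (lTensor_exact R' hex hp)).symm
    haveI := Module.Finite.iff_fg.2 hfg
    exact Module.Finite.equiv ((LinearEquiv.ofInjective _ hinj).trans (LinearEquiv.ofEq _ _ hr)).symm
  haveI : Module.Finite (Localization.Away f) (LocalizedModule S K) := by
    let i' := IsLocalizedModule.mapExtendScalars S (LocalizedModule.mkLinearMap S K)
      (LocalizedModule.mkLinearMap S (Fin a → R)) (Localization.Away f) K.subtype
    let p' := IsLocalizedModule.mapExtendScalars S (LocalizedModule.mkLinearMap S (Fin a → R))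
      (LocalizedModule.mkLinearMap S M) (Localization.Away f) p
    have hi : Function.Injective i' := IsLocalizedModule.map_injective S _ _ _ K.injective_subtype
    have hps : Function.Surjective p' := IsLocalizedModule.map_surjective S _ _ _ hp
    have hfg : (LinearMap.ker p').FG := Module.FinitePresentation.fg_ker p' hps
    have hr : LinearMap.range i' = LinearMap.ker p' :=
      ((LinearMap.exact_iff (f := i') (g := p')).1 (IsLocalizedModule.map_exact S _ _ _ K.subtype p hex)).symm
    haveI := Module.Finite.iff_fg.2 hfg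
    exact Module.Finite.equiv ((LinearEquiv.ofInjective _ hi).trans (LinearEquiv.ofEq _ _ hr)).symm
  exact Module.Finite.iff_fg.1 (finite_of_pair h.1)

end Groth.Agent.GlueH7
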