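import Groth.Agent.S2004
import Groth.Agent.Lib.GlueH7.Flat
import Mathlib.RingTheory.Localization.BaseChange
import Mathlib.RingTheory.Localization.Finiteness
import Mathlib.RingTheory.FinitePresentation
import Mathlib.RingTheory.Kaehler.TensorProduct
import Mathlib.RingTheory.Smooth.Fiber
import Mathlib.RingTheory.Etale.Basic
import Mathlib.RingTheory.Smooth.Flat

/-!
Algebras over a glueing pair.
-/

universe u

open TensorProduct

namespace Groth.Agent.GlueH7

attribute [local instance] Algebra.TensorProduct.rightAlgebra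

/-- A glueable `R`-algebra gives a glueing pair over itself. -/
theorem isGlueingPair_baseChange {R R' : Type u} [CommRing R] [CommRing R'] [Algebra R R'] {f : R}
    (hRR : EtGlue.IsGlueingPair R R' f) (A : Type u) [CommRing A] [Algebra R A]
    (hA : EtGlue.IsGlueable R R' f A) :
    EtGlue.IsGlueingPair A (R' ⊗[R] A) (algebraMap R A f) := by
  have hpow : ∀ (n : ℕ) (y : R' ⊗[R] A),
      algebraMap A (R' ⊗[R] A) (algebraMap R A f) ^ n * y = f ^ n • y := by
    intro n y
    rw [← IsScalarTower.algebraMap_apply R A (R' ⊗[R] A), ← map_pow, ← Algebra.smul_def]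
  have hright : ∀ a : A, algebraMap A (R' ⊗[R] A) a = (1 : R') ⊗ₜ[R] a := fun a =>
    Algebra.TensorProduct.right_algebraMap_apply a
  have hAsmul : ∀ (n : ℕ) (a : A), algebraMap R A f ^ n * a = f ^ n • a := fun n a => by
    rw [← map_pow, ← Algebra.smul_def]
  have hq : EtGlue.QuotPowBijective A (R' ⊗[R] A) (algebraMap R A f) := by
    intro n hn
    constructor
    · rw [injective_iff_map_eq_zero]
      intro q hq0
      obtain ⟨a, rfl⟩ := Ideal.Quotient.mk_surjective q
      rw [Ideal.quotientMap_mk, Ideal.Quotient.eq_zero_iff_mem, Ideal.map_span, Set.image_singleton,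
        Ideal.mem_span_singleton', map_pow] at hq0
      obtain ⟨y, hy⟩ := hq0
      rw [mul_comm, hpow, hright] at hy
      obtain ⟨a₀, rfl⟩ := mem_smul_of_one_tmul hRR.1 hy.symm
      rw [Ideal.Quotient.eq_zero_iff_mem, Ideal.mem_span_singleton']
      exact ⟨a₀, by rw [mul_comm, hAsmul]⟩
    · intro q
      obtain ⟨x, rfl⟩ := Ideal.Quotient.mk_surjective q
      obtain ⟨a, y, rfl⟩ := exists_eq_tmul_add hRR.1 n x
      refine ⟨Ideal.Quotient.mk _ a, ?_⟩
      rw [Ideal.quotientMap_mk, Ideal.Quotient.eq, Ideal.map_span, Set.image_singleton,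
        Ideal.mem_span_singleton', map_pow]
      exact ⟨-y, by rw [neg_mul, mul_comm y, hpow, hright, sub_add_cancel_left]⟩
  obtain ⟨h1, h2⟩ := (isGlueable_iff hRR.1).1 hA
  refine (Groth.Agent.S2004.result A (R' ⊗[R] A) (algebraMap R A f) hq).2 ⟨?_, ?_⟩
  · rintro a ⟨n, hn⟩ ha
    rw [hAsmul] at hn
    rw [hright] at ha
    exact h1 a ⟨n, hn⟩ ha
  · rintro x ⟨n, hn⟩
    rw [hpow] at hn
    obtain ⟨a, ⟨k, hk⟩, rfl⟩ := h2 x ⟨n, hn⟩
    exact ⟨a, ⟨k, by rw [hAsmul]; exact hk⟩, hright a⟩

section generic

variable {A : Type u} [CommRing A] {S : Type u} [CommRing S] [Algebra A S] {g : A}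
  {B : Type u} [CommRing B] [Algebra A B]

/-- The base change to `A[1/g]` is the localized module. -/
noncomputable def locEquiv (g : A) (M : Type u) [AddCommGroup M] [Module A M] :
    Localization.Away g ⊗[A] M ≃ₗ[Localization.Away g] LocalizedModule (Submonoid.powers g) M :=
  ((isLocalizedModule_iff_isBaseChange (Submonoid.powers g) (Localization.Away g)
    (LocalizedModule.mkLinearMap (Submonoid.powers g) M)).1 inferInstance).equiv

theorem torsion_of_one_tmul_eq_zero {M : Type u} [AddCommGroup M] [Module A M] {m : M}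
    (h : (1 : Localization.Away g) ⊗ₜ[A] m = 0) : ∃ n, g ^ n • m = 0 := by
  obtain ⟨⟨_, n, rfl⟩, hn⟩ := (IsLocalizedModule.eq_zero_iff (Submonoid.powers g)
    (TensorProduct.mk A (Localization.Away g) M 1)).1 h
  exact ⟨n, hn⟩

theorem finite_iff (h : EtGlue.IsGlueingPair A S g) :
    Module.Finite A B ↔ Module.Finite S (S ⊗[A] B) ∧
      Module.Finite (Localization.Away g) (Localization.Away g ⊗[A] B) := by
  constructor
  · intro; exact ⟨inferInstance, inferInstance⟩
  · rintro ⟨h1, h2⟩
    haveI := Module.Finite.equiv (locEquiv g B)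
    exact finite_of_pair h.1

theorem flat_iff (h : EtGlue.IsGlueingPair A S g) :
    Module.Flat A B ↔ Module.Flat S (S ⊗[A] B) ∧
      Module.Flat (Localization.Away g) (Localization.Away g ⊗[A] B) := by
  constructor
  · intro; exact ⟨inferInstance, inferInstance⟩
  · rintro ⟨h1, h2⟩
    haveI := Module.Flat.of_linearEquiv (locEquiv g B).symm
    exact flat_of_pair h B

theorem finiteType_of_pair (h : EtGlue.IsGlueingPair A S g)
    [Algebra.FiniteType S (S ⊗[A] B)]
    [Algebra.FiniteType (Localization.Away g) (Localization.Away g ⊗[A] B)] : Algebra.FiniteType A B := by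
  classical
  have key : ∀ (T : Type u) [CommRing T] [Algebra A T] [Algebra.FiniteType T (T ⊗[A] B)],
      ∃ s : Finset B, ∀ B₀ : Subalgebra A B, (s : Set B) ⊆ B₀ →
        ∀ x, x ∈ (Algebra.TensorProduct.map (AlgHom.id T T) B₀.val).range := by
    intro T _ _ hT
    obtain ⟨t, ht⟩ := hT.out
    choose F hF using fun x : T ⊗[A] B => TensorProduct.exists_finset x
    refine ⟨t.biUnion fun x => (F x).image Prod.snd, fun B₀ hB₀ x => ?_⟩
    have : Algebra.adjoin T (t : Set (T ⊗[A] B)) ≤
        (Algebra.TensorProduct.map (AlgHom.id T T) B₀.val).range := by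
      refine Algebra.adjoin_le fun y hy => ?_
      rw [hF y]
      refine sum_mem fun q hq => ⟨q.1 ⊗ₜ[A] ⟨q.2, hB₀ ?_⟩, rfl⟩
      simp only [Finset.coe_biUnion, Set.mem_iUnion, Finset.coe_image]
      exact ⟨y, hy, q, hq, rfl⟩
    exact this (ht ▸ Algebra.mem_top)
  obtain ⟨s, hs⟩ := key S
  obtain ⟨t, ht⟩ := key (Localization.Away g)
  let B₀ : Subalgebra A B := Algebra.adjoin A ((s : Set B) ∪ t)
  have hs' := hs B₀ (Set.subset_union_left.trans Algebra.subset_adjoin)
  have ht' := ht B₀ (Set.subset_union_right.trans Algebra.subset_adjoin)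
  have htop : Subalgebra.toSubmodule B₀ = ⊤ := by
    refine eq_top_of_pair h.1 _ (fun x => ?_) (fun b => ?_)
    · obtain ⟨y, hy⟩ := hs' x
      exact ⟨y, hy⟩
    · obtain ⟨y, hy⟩ := ht' ((1 : Localization.Away g) ⊗ₜ[A] b)
      obtain ⟨⟨b₀, ⟨_, n, rfl⟩⟩, hn⟩ := IsLocalizedModule.surj (Submonoid.powers g)
        (TensorProduct.mk A (Localization.Away g) B₀ 1) y
      have hn' : g ^ n • y = (1 : Localization.Away g) ⊗ₜ[A] b₀ := hn
      have h2 := congrArg ((Algebra.TensorProduct.map (AlgHom.id (Localization.Away g) (Localization.Away g))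
        B₀.val).toLinearMap.restrictScalars A) hn'
      have hy' : ((Algebra.TensorProduct.map (AlgHom.id (Localization.Away g) (Localization.Away g))
        B₀.val).toLinearMap.restrictScalars A) y = (1 : Localization.Away g) ⊗ₜ[A] b := hy
      rw [map_smul, hy', ← TensorProduct.tmul_smul] at h2
      have h3 : (1 : Localization.Away g) ⊗ₜ[A] (g ^ n • b - (b₀ : B)) = 0 := by
        rw [TensorProduct.tmul_sub, h2]
        simp
      obtain ⟨k, hk⟩ := torsion_of_one_tmul_eq_zero h3
      refine ⟨k + n, ?_⟩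
      rw [smul_sub, sub_eq_zero, smul_smul, ← pow_add] at hk
      rw [hk]
      exact Submodule.smul_mem _ _ b₀.2
  refine ⟨⟨s ∪ t, ?_⟩⟩
  rw [Finset.coe_union]
  exact Algebra.toSubmodule_eq_top.1 htop

theorem flat_finitePresentation_of_pair (h : EtGlue.IsGlueingPair A S g)
    [Module.Flat S (S ⊗[A] B)] [Algebra.FinitePresentation S (S ⊗[A] B)]
    [Module.Flat (Localization.Away g) (Localization.Away g ⊗[A] B)]
    [Algebra.FinitePresentation (Localization.Away g) (Localization.Away g ⊗[A] B)] :
    Module.Flat A B ∧ Algebra.FinitePresentation A B := by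
  classical
  haveI hflat : Module.Flat A B := (flat_iff h).2 ⟨inferInstance, inferInstance⟩
  refine ⟨hflat, ?_⟩
  haveI := finiteType_of_pair (B := B) h
  obtain ⟨k, π, hπ⟩ := Algebra.FiniteType.iff_quotient_mvPolynomial''.1 (inferInstance : Algebra.FiniteType A B)
  let I : Ideal (MvPolynomial (Fin k) A) := RingHom.ker π
  have key : ∀ (T : Type u) [CommRing T] [Algebra A T] [Algebra.FinitePresentation T (T ⊗[A] B)],
      ∃ s : Finset (MvPolynomial (Fin k) A), (s : Set (MvPolynomial (Fin k) A)) ⊆ (I : Set (MvPolynomial (Fin k) A)) ∧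
        RingHom.ker (Algebra.TensorProduct.map (AlgHom.id A T) π) =
          (Ideal.span (s : Set (MvPolynomial (Fin k) A))).map
            (Algebra.TensorProduct.includeRight : MvPolynomial (Fin k) A →ₐ[A] T ⊗[A] MvPolynomial (Fin k) A) := by
    intro T _ _ hT
    haveI : Algebra.FinitePresentation T (T ⊗[A] MvPolynomial (Fin k) A) := inferInstance
    have hfg : (RingHom.ker (Algebra.TensorProduct.map (AlgHom.id T T) π).toRingHom).FG :=
      Algebra.FinitePresentation.ker_fG_of_surjective _ (LinearMap.lTensor_surjective T hπ)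
    have hker : RingHom.ker (Algebra.TensorProduct.map (AlgHom.id A T) π) = _ :=
      Algebra.TensorProduct.lTensor_ker (A := T) π hπ
    have heq : RingHom.ker (Algebra.TensorProduct.map (AlgHom.id T T) π).toRingHom =
        RingHom.ker (Algebra.TensorProduct.map (AlgHom.id A T) π) := rfl
    rw [heq, hker, Ideal.map] at hfg
    obtain ⟨u, hu, hspan⟩ := (Submodule.fg_span_iff_fg_span_finset_subset _).1 hfg
    choose pre hpre hpre' using fun x : u => hu x.2
    refine ⟨Finset.univ.image pre, ?_, ?_⟩
    · intro x hx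
      simp only [Finset.coe_image, Finset.coe_univ, Set.image_univ] at hx
      obtain ⟨i, rfl⟩ := hx
      exact hpre i
    · rw [hker, Ideal.map]
      refine le_antisymm ?_ (Ideal.map_mono (Ideal.span_le.2 ?_))
      · refine hspan.le.trans (Submodule.span_le.2 fun x hx => ?_)
        rw [← show _ = x from hpre' ⟨x, hx⟩]
        exact Ideal.mem_map_of_mem _ (Ideal.subset_span (by simp))
      · intro x hx
        simp only [Finset.coe_image, Finset.coe_univ, Set.image_univ] at hx
        obtain ⟨i, rfl⟩ := hx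
        exact hpre i
  obtain ⟨s, hsI, hs⟩ := key S
  obtain ⟨t, htI, ht⟩ := key (Localization.Away g)
  let I₀ : Ideal (MvPolynomial (Fin k) A) := Ideal.span ((s ∪ t : Finset _) : Set _)
  have hI₀ : I₀ ≤ I := Ideal.span_le.2 (by rw [Finset.coe_union]; exact Set.union_subset hsI htI)
  let q : MvPolynomial (Fin k) A ⧸ I₀ →ₐ[A] B := Ideal.Quotient.liftₐ I₀ π hI₀
  have hq : Function.Surjective q := fun b => by
    obtain ⟨p, rfl⟩ := hπ b
    exact ⟨Ideal.Quotient.mk I₀ p, rfl⟩
  have hbij : ∀ (T : Type u) [CommRing T] [Algebra A T] (u : Finset (MvPolynomial (Fin k) A)), u ⊆ s ∪ t →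
      RingHom.ker (Algebra.TensorProduct.map (AlgHom.id A T) π) =
          (Ideal.span (u : Set (MvPolynomial (Fin k) A))).map
            (Algebra.TensorProduct.includeRight : MvPolynomial (Fin k) A →ₐ[A] T ⊗[A] MvPolynomial (Fin k) A) →
      Function.Bijective (q.toLinearMap.baseChange T) := by
    intro T _ _ u hu hu'
    refine ⟨(injective_iff_map_eq_zero _).2 fun x hx => ?_, LinearMap.lTensor_surjective T hq⟩
    let m := Algebra.TensorProduct.map (AlgHom.id A T) (Ideal.Quotient.mkₐ A I₀)
    obtain ⟨z, hz⟩ := LinearMap.lTensor_surjective T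
      (g := (Ideal.Quotient.mkₐ A I₀).toLinearMap) Ideal.Quotient.mk_surjective x
    subst hz
    have hz : z ∈ RingHom.ker (Algebra.TensorProduct.map (AlgHom.id A T) π) := by
      rw [RingHom.mem_ker]
      have : (Algebra.TensorProduct.map (AlgHom.id A T) π).toLinearMap z =
          q.toLinearMap.lTensor T ((Ideal.Quotient.mkₐ A I₀).toLinearMap.lTensor T z) := by
        rw [← LinearMap.comp_apply, ← LinearMap.lTensor_comp]
        rfl
      exact this.trans hx
    rw [hu'] at hz
    have hle : (Ideal.span (u : Set (MvPolynomial (Fin k) A))).map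
        (Algebra.TensorProduct.includeRight : MvPolynomial (Fin k) A →ₐ[A] T ⊗[A] MvPolynomial (Fin k) A) ≤
        RingHom.ker m := by
      rw [Ideal.map_le_iff_le_comap]
      intro y hy
      have hy' : y ∈ I₀ := Ideal.span_mono (by exact_mod_cast hu) hy
      simp [m, Ideal.Quotient.eq_zero_iff_mem.2 hy']
    exact hle hz
  have hS := hbij S s Finset.subset_union_left hs
  have hL := hbij (Localization.Away g) t Finset.subset_union_right ht
  haveI : Module.Flat S (S ⊗[A] (MvPolynomial (Fin k) A ⧸ I₀)) :=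
    Module.Flat.of_linearEquiv (LinearEquiv.ofBijective _ hS)
  haveI : Module.Flat (Localization.Away g)
      (LocalizedModule (Submonoid.powers g) (MvPolynomial (Fin k) A ⧸ I₀)) :=
    Module.Flat.of_linearEquiv ((locEquiv g _).symm ≪≫ₗ LinearEquiv.ofBijective _ hL)
  have hinj : Function.Injective q := (injective_iff_map_eq_zero _).2 fun x hx => by
    have h1 : (1 : S) ⊗ₜ[A] x = 0 := hS.1 (by simp [hx])
    have h2 : (1 : Localization.Away g) ⊗ₜ[A] x = 0 := hL.1 (by simp [hx])
    exact injPair_of_flat_loc h _ x (torsion_of_one_tmul_eq_zero h2) h1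
  haveI : Algebra.FinitePresentation A (MvPolynomial (Fin k) A ⧸ I₀) :=
    Algebra.FinitePresentation.quotient ⟨s ∪ t, rfl⟩
  exact Algebra.FinitePresentation.equiv (AlgEquiv.ofBijective q ⟨hinj, hq⟩)

theorem etale_of_pair (h : EtGlue.IsGlueingPair A S g)
    [Algebra.Etale S (S ⊗[A] B)]
    [Algebra.Etale (Localization.Away g) (Localization.Away g ⊗[A] B)] : Algebra.Etale A B := by
  obtain ⟨_, _⟩ := flat_finitePresentation_of_pair (B := B) h
  have hsub : ∀ (T : Type u) [CommRing T] [Algebra A T] [Algebra.FormallyUnramified T (T ⊗[A] B)],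
      Subsingleton (T ⊗[A] Ω[B⁄A]) := fun T _ _ _ =>
    (KaehlerDifferential.tensorKaehlerEquivBase A T B (T ⊗[A] B)).toEquiv.subsingleton
  haveI := hsub S
  haveI := hsub (Localization.Away g)
  haveI : Algebra.FormallyUnramified A B := ⟨subsingleton_of_pair (R' := S) h.1 fun w =>
    torsion_of_one_tmul_eq_zero (Subsingleton.elim _ _)⟩
  exact Algebra.Etale.of_formallyUnramified_of_flat

end generic

end Groth.Agent.GlueH7
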