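import Groth.Prelude.Def_EtGlue
import Mathlib.RingTheory.Localization.BaseChange
import Mathlib.LinearAlgebra.TensorProduct.RightExactness
import Mathlib.LinearAlgebra.TensorProduct.Prod
import Mathlib.RingTheory.Finiteness.Ideal
import Mathlib.Tactic.LinearCombination

/-!
Basic facts about `R → R'` inducing bijections modulo powers of `f`.
-/

universe u

open TensorProduct

namespace Groth.Agent.GlueH7

variable {R R' : Type u} [CommRing R] [CommRing R'] [Algebra R R'] {f : R}

theorem exists_eq_add (hq : EtGlue.QuotPowBijective R R' f) (n : ℕ) (x : R') :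
    ∃ (r : R) (y : R'), x = algebraMap R R' r + algebraMap R R' f ^ n * y := by
  rcases Nat.eq_zero_or_pos n with rfl | hn
  · exact ⟨0, x, by simp⟩
  obtain ⟨r, hr⟩ := (hq n hn).2 (Ideal.Quotient.mk _ x)
  obtain ⟨r, rfl⟩ := Ideal.Quotient.mk_surjective r
  rw [Ideal.quotientMap_mk, Ideal.Quotient.eq, Ideal.map_span, Set.image_singleton,
    Ideal.mem_span_singleton'] at hr
  obtain ⟨y, hy⟩ := hr
  exact ⟨r, -y, by rw [map_pow] at hy; linear_combination hy⟩

theorem dvd_of_dvd (hq : EtGlue.QuotPowBijective R R' f) {n : ℕ} {r : R} {y : R'}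
    (h : algebraMap R R' r = algebraMap R R' f ^ n * y) : ∃ r₀, r = f ^ n * r₀ := by
  rcases Nat.eq_zero_or_pos n with rfl | hn
  · exact ⟨r, by simp⟩
  have h0 := (injective_iff_map_eq_zero _).1 (hq n hn).1 (Ideal.Quotient.mk _ r) (by
    rw [Ideal.quotientMap_mk, Ideal.Quotient.eq_zero_iff_mem, Ideal.map_span, Set.image_singleton,
      Ideal.mem_span_singleton']
    exact ⟨y, by rw [h, map_pow, mul_comm]⟩)
  rw [Ideal.Quotient.eq_zero_iff_mem, Ideal.mem_span_singleton'] at h0
  obtain ⟨r₀, hr₀⟩ := h0
  exact ⟨r₀, by rw [← hr₀, mul_comm]⟩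

section modules

variable {M : Type u} [AddCommGroup M] [Module R M]

theorem exists_eq_tmul_add (hq : EtGlue.QuotPowBijective R R' f) (n : ℕ) (x : R' ⊗[R] M) :
    ∃ (m : M) (y : R' ⊗[R] M), x = (1 : R') ⊗ₜ[R] m + f ^ n • y := by
  induction x using TensorProduct.induction_on with
  | zero => exact ⟨0, 0, by simp⟩
  | tmul a m =>
    obtain ⟨r, y, rfl⟩ := exists_eq_add hq n a
    refine ⟨r • m, y ⊗ₜ[R] m, ?_⟩
    rw [TensorProduct.add_tmul, ← TensorProduct.smul_tmul, ← Algebra.algebraMap_eq_smul_one,
      TensorProduct.smul_tmul', Algebra.smul_def, map_pow]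
  | add a b ha hb =>
    obtain ⟨m, y, rfl⟩ := ha
    obtain ⟨m', y', rfl⟩ := hb
    exact ⟨m + m', y + y', by rw [TensorProduct.tmul_add, smul_add]; abel⟩

/-- A representative in `R` of an element of `R'` modulo `f ^ n`. -/
noncomputable def rep (hq : EtGlue.QuotPowBijective R R' f) (n : ℕ) (x : R') : R :=
  (exists_eq_add hq n x).choose

theorem rep_spec (hq : EtGlue.QuotPowBijective R R' f) (n : ℕ) (x : R') :
    ∃ y, x = algebraMap R R' (rep hq n x) + algebraMap R R' f ^ n * y :=
  (exists_eq_add hq n x).choose_spec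

theorem smul_eq_of_spec (hq : EtGlue.QuotPowBijective R R' f) {n : ℕ} {x : R'} {r : R} {y : R'}
    (h : x = algebraMap R R' r + algebraMap R R' f ^ n * y) {m : M} (hm : f ^ n • m = 0) :
    rep hq n x • m = r • m := by
  obtain ⟨y', hy'⟩ := rep_spec hq n x
  obtain ⟨r₀, hr₀⟩ := dvd_of_dvd hq (n := n) (r := rep hq n x - r) (y := y - y')
    (by rw [map_sub]; linear_combination h - hy')
  rw [← sub_eq_zero, ← sub_smul, hr₀, mul_comm, mul_smul, hm, smul_zero]

/-- The inverse of `M → R' ⊗ M` for `f`-power torsion `M`. -/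
noncomputable def torsionInv (hq : EtGlue.QuotPowBijective R R' f)
    (hM : ∀ m : M, ∃ n, f ^ n • m = 0) : R' ⊗[R] M →ₗ[R] M :=
  TensorProduct.lift <| LinearMap.mk₂ R (fun x m => rep hq (hM m).choose x • m)
    (fun a b m => by
      obtain ⟨y, hy⟩ := rep_spec hq (hM m).choose a
      obtain ⟨y', hy'⟩ := rep_spec hq (hM m).choose b
      rw [smul_eq_of_spec hq (r := rep hq (hM m).choose a + rep hq (hM m).choose b) (y := y + y')
        (by rw [map_add]; linear_combination hy + hy') (hM m).choose_spec, add_smul])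
    (fun c a m => by
      obtain ⟨y, hy⟩ := rep_spec hq (hM m).choose a
      rw [smul_eq_of_spec hq (r := c * rep hq (hM m).choose a) (y := algebraMap R R' c * y)
        (by rw [Algebra.smul_def, map_mul]; linear_combination algebraMap R R' c * hy)
        (hM m).choose_spec, mul_smul])
    (fun a m m' => by
      have key : ∀ (z : M) (n : ℕ), (hM z).choose ≤ n → rep hq (hM z).choose a • z = rep hq n a • z := by
        intro z n hn
        obtain ⟨y, hy⟩ := rep_spec hq n a
        refine smul_eq_of_spec hq (y := algebraMap R R' f ^ (n - (hM z).choose) * y) ?_ (hM z).choose_spec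
        rw [← mul_assoc, ← pow_add, Nat.add_sub_cancel' hn]
        exact hy
      rw [key (m + m') ((hM (m + m')).choose + (hM m).choose + (hM m').choose) (by omega),
        key m ((hM (m + m')).choose + (hM m).choose + (hM m').choose) (by omega),
        key m' ((hM (m + m')).choose + (hM m).choose + (hM m').choose) (by omega), smul_add])
    (fun c a m => by
      obtain ⟨y, hy⟩ := rep_spec hq ((hM (c • m)).choose + (hM m).choose) a
      rw [smul_eq_of_spec hq (r := rep hq ((hM (c • m)).choose + (hM m).choose) a)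
          (y := algebraMap R R' f ^ (hM m).choose * y)
          (by rw [← mul_assoc, ← pow_add]; exact hy) (hM (c • m)).choose_spec,
        smul_eq_of_spec hq (r := rep hq ((hM (c • m)).choose + (hM m).choose) a)
          (y := algebraMap R R' f ^ (hM (c • m)).choose * y)
          (by rw [← mul_assoc, ← pow_add, add_comm (hM m).choose]; exact hy) (hM m).choose_spec,
        smul_comm])

theorem torsionInv_one_tmul (hq : EtGlue.QuotPowBijective R R' f)
    (hM : ∀ m : M, ∃ n, f ^ n • m = 0) (m : M) : torsionInv hq hM ((1 : R') ⊗ₜ[R] m) = m := by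
  simp only [torsionInv, TensorProduct.lift.tmul, LinearMap.mk₂_apply]
  rw [smul_eq_of_spec hq (r := 1) (y := 0) (by simp) (hM m).choose_spec, one_smul]

theorem mem_smul_of_one_tmul (hq : EtGlue.QuotPowBijective R R' f) {n : ℕ} {m : M} {y : R' ⊗[R] M}
    (h : (1 : R') ⊗ₜ[R] m = f ^ n • y) : ∃ m₀, m = f ^ n • m₀ := by
  let S : Submodule R M := LinearMap.range (LinearMap.lsmul R M (f ^ n))
  have hS : ∀ q : M ⧸ S, f ^ n • q = 0 := by
    intro q
    obtain ⟨q, rfl⟩ := S.mkQ_surjective q
    rw [← map_smul, Submodule.mkQ_apply, Submodule.Quotient.mk_eq_zero]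
    exact ⟨q, rfl⟩
  have h1 := congrArg (fun z => torsionInv hq (fun q => ⟨n, hS q⟩) (S.mkQ.lTensor R' z)) h
  simp only [LinearMap.lTensor_tmul, torsionInv_one_tmul, map_smul, hS, Submodule.mkQ_apply,
    Submodule.Quotient.mk_eq_zero] at h1
  obtain ⟨m₀, hm₀⟩ := h1
  exact ⟨m₀, hm₀.symm⟩

theorem mk_bijective_of_torsion (hq : EtGlue.QuotPowBijective R R' f)
    (hM : ∀ m : M, ∃ n, f ^ n • m = 0) : Function.Bijective (TensorProduct.mk R R' M 1) := by
  constructor
  · exact Function.LeftInverse.injective (g := torsionInv hq hM) (torsionInv_one_tmul hq hM)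
  · intro x
    induction x using TensorProduct.induction_on with
    | zero => exact ⟨0, map_zero _⟩
    | tmul a m =>
      obtain ⟨n, hn⟩ := hM m
      obtain ⟨r, y, rfl⟩ := exists_eq_add hq n a
      refine ⟨r • m, ?_⟩
      rw [TensorProduct.mk_apply, TensorProduct.add_tmul, ← map_pow,
        show algebraMap R R' (f ^ n) * y = f ^ n • y from (Algebra.smul_def _ _).symm,
        TensorProduct.smul_tmul, hn, TensorProduct.tmul_zero, add_zero, ← TensorProduct.smul_tmul,
        ← Algebra.algebraMap_eq_smul_one]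
    | add a b ha hb =>
      obtain ⟨m, rfl⟩ := ha
      obtain ⟨m', rfl⟩ := hb
      exact ⟨m + m', map_add _ _ _⟩

theorem subsingleton_of_tensor_of_loc (hq : EtGlue.QuotPowBijective R R' f)
    [Subsingleton (R' ⊗[R] M)] (hloc : ∀ m : M, ∃ n, f ^ n • m = 0) : Subsingleton M :=
  (mk_bijective_of_torsion hq hloc).1.subsingleton

theorem exists_torsion_of_glueingPair (h : EtGlue.IsGlueingPair R R' f) {n : ℕ} {z : R' ⊗[R] M}
    (hz : f ^ n • z = 0) : ∃ m : M, (∃ k, f ^ k • m = 0) ∧ (1 : R') ⊗ₜ[R] m = z := by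
  let g : R →ₗ[R] R' × Localization.Away f :=
    (Algebra.linearMap R R').prod (Algebra.linearMap R (Localization.Away f))
  let aw : Localization.Away f →ₗ[R] Localization.Away (algebraMap R R' f) :=
    { toFun := Localization.awayMap (algebraMap R R') f
      map_add' := map_add _
      map_smul' := fun r y => by
        simp only [Algebra.smul_def, map_mul, RingHom.id_apply]
        congr 1
        rw [Localization.awayMap, IsLocalization.Away.map, IsLocalization.map_eq,
          IsScalarTower.algebraMap_apply R R' (Localization.Away (algebraMap R R' f))] }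
  let k : R' × Localization.Away f →ₗ[R] Localization.Away (algebraMap R R' f) :=
    (IsScalarTower.toAlgHom R R' (Localization.Away (algebraMap R R' f))).toLinearMap.comp
        (LinearMap.fst R R' (Localization.Away f)) - aw.comp (LinearMap.snd R R' (Localization.Away f))
  have hk : Function.Surjective k := fun w => by
    obtain ⟨x, y, hxy⟩ := h.2.2.2 w
    exact ⟨(x, y), hxy⟩
  have hgk : Function.Exact g k := by
    intro p
    refine ⟨fun hp => ?_, ?_⟩
    · obtain ⟨r, hr1, hr2⟩ := h.2.2.1 p.1 p.2 (sub_eq_zero.1 hp)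
      exact ⟨r, Prod.ext hr1 hr2⟩
    · rintro ⟨r, rfl⟩
      have := aw.map_smul r 1
      show algebraMap R' _ (algebraMap R R' r) - aw (algebraMap R _ r) = 0
      rw [Algebra.algebraMap_eq_smul_one (A := Localization.Away f) r, this]
      simp [aw, Algebra.smul_def, ← IsScalarTower.algebraMap_apply]
  let i : R' →ₗ[R] R' × Localization.Away f := LinearMap.inl R R' (Localization.Away f)
  have hu : IsUnit (algebraMap R (Localization.Away (algebraMap R R' f)) (f ^ n)) := by
    rw [map_pow, IsScalarTower.algebraMap_apply R R' (Localization.Away (algebraMap R R' f))]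
    exact (IsLocalization.Away.algebraMap_isUnit _).pow n
  have h0 : k.rTensor M (i.rTensor M z) = 0 := by
    have hkill : f ^ n • k.rTensor M (i.rTensor M z) = 0 := by
      rw [← map_smul, ← map_smul, hz, map_zero, map_zero]
    obtain ⟨v, hv⟩ := hu.exists_left_inv
    let μ : Localization.Away (algebraMap R R' f) →ₗ[R] Localization.Away (algebraMap R R' f) :=
      LinearMap.mulLeft R v
    have hμ : ∀ w : Localization.Away (algebraMap R R' f) ⊗[R] M, μ.rTensor M (f ^ n • w) = w := by
      intro w
      induction w using TensorProduct.induction_on with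
      | zero => simp
      | tmul a m =>
        rw [TensorProduct.smul_tmul', LinearMap.rTensor_tmul, LinearMap.mulLeft_apply, Algebra.smul_def,
          ← mul_assoc, hv, one_mul]
      | add a b ha hb => rw [smul_add, map_add, ha, hb]
    rw [← hμ (k.rTensor M (i.rTensor M z)), hkill, map_zero]
  obtain ⟨w, hw⟩ := (rTensor_exact M hgk hk _).1 h0
  have hw1 : ∃ m, (1 : R) ⊗ₜ[R] m = w := ⟨TensorProduct.lid R M w, by
    rw [← TensorProduct.lid_symm_apply, LinearEquiv.symm_apply_apply]⟩
  obtain ⟨m, rfl⟩ := hw1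
  have h1 := congrArg ((LinearMap.fst R R' (Localization.Away f)).rTensor M) hw
  have h2 := congrArg ((LinearMap.snd R R' (Localization.Away f)).rTensor M) hw
  rw [← LinearMap.comp_apply _ (i.rTensor M), ← LinearMap.rTensor_comp] at h1 h2
  simp only [i, LinearMap.fst_comp_inl, LinearMap.snd_comp_inl, LinearMap.rTensor_id, LinearMap.id_apply,
    LinearMap.rTensor_zero, LinearMap.zero_apply, LinearMap.rTensor_tmul] at h1 h2
  have hg1 : g 1 = (1, 1) := Prod.ext (map_one (algebraMap R R')) (map_one (algebraMap R (Localization.Away f)))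
  rw [hg1] at h1 h2
  simp only [LinearMap.fst_apply, LinearMap.snd_apply] at h1 h2
  obtain ⟨⟨c, j, rfl⟩, hc⟩ := (IsLocalizedModule.eq_zero_iff (Submonoid.powers f)
    (TensorProduct.mk R (Localization.Away f) M 1)).1 h2
  exact ⟨m, ⟨j, hc⟩, h1⟩

end modules

end Groth.Agent.GlueH7
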