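import Groth.Agent.Lib.GlueH7.Alg
import Mathlib.RingTheory.RingHomProperties
import Mathlib.RingTheory.RingHom.Finite
import Mathlib.RingTheory.RingHom.FiniteType
import Mathlib.RingTheory.RingHom.Flat
import Mathlib.RingTheory.RingHom.FinitePresentation
import Mathlib.RingTheory.RingHom.Etale

/-!
From algebra maps to tensor products.
-/

universe u

open TensorProduct

namespace Groth.Agent.GlueH7

attribute [local instance] Algebra.TensorProduct.rightAlgebra

theorem iff_of_respectsIso {P : ∀ {R S : Type u} [CommRing R] [CommRing S], (R →+* S) → Prop}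
    (hP : RingHom.RespectsIso @P) {R S T : Type u} [CommRing R] [CommRing S] [CommRing T]
    (f : R →+* S) (g : R →+* T) (e : S ≃+* T) (h : e.toRingHom.comp f = g) : P g ↔ P f := by
  subst h
  refine ⟨fun hg => ?_, fun hf => hP.1 f e hf⟩
  have := hP.1 _ e.symm hg
  rwa [← RingHom.comp_assoc, RingEquiv.symm_toRingHom_comp_toRingHom, RingHom.id_comp] at this

variable {R R' : Type u} [CommRing R] [CommRing R'] [Algebra R R'] {f : R}
  {A B : Type u} [CommRing A] [Algebra R A] [CommRing B] [Algebra R B]

theorem bridge (φ : A →ₐ[R] B) (g : A)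
    (P : ∀ {R S : Type u} [CommRing R] [CommRing S], (R →+* S) → Prop) (hP : RingHom.RespectsIso @P) :
    letI := φ.toRingHom.toAlgebra
    (P (Localization.awayMap φ.toRingHom g) ↔
      P (algebraMap (Localization.Away g) (Localization.Away g ⊗[A] B))) ∧
    (P (Algebra.TensorProduct.map (AlgHom.id R R') φ).toRingHom ↔
      P (algebraMap (R' ⊗[R] A) ((R' ⊗[R] A) ⊗[A] B))) := by
  letI := φ.toRingHom.toAlgebra
  haveI : IsScalarTower R A B := IsScalarTower.of_algebraMap_eq fun r => (φ.commutes r).symm
  constructor
  · letI : Algebra (Localization.Away g) (Localization.Away (φ.toRingHom g)) :=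
      (Localization.awayMap φ.toRingHom g).toAlgebra
    haveI : IsScalarTower A (Localization.Away g) (Localization.Away (φ.toRingHom g)) :=
      IsScalarTower.of_algebraMap_eq fun a => by
        rw [IsScalarTower.algebraMap_apply A B (Localization.Away (φ.toRingHom g))]
        show _ = Localization.awayMap φ.toRingHom g (algebraMap A (Localization.Away g) a)
        rw [Localization.awayMap, IsLocalization.Away.map, IsLocalization.map_eq]
        rfl
    haveI : IsLocalization (Algebra.algebraMapSubmonoid B (Submonoid.powers g))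
        (Localization.Away (φ.toRingHom g)) := by
      rw [Algebra.algebraMapSubmonoid_powers]
      exact inferInstanceAs (IsLocalization (Submonoid.powers (φ.toRingHom g)) (Localization.Away (φ.toRingHom g)))
    haveI : Algebra.IsPushout A B (Localization.Away g) (Localization.Away (φ.toRingHom g)) :=
      Algebra.isPushout_of_isLocalization (Submonoid.powers g) (Localization.Away g) B (Localization.Away (φ.toRingHom g))
    haveI : Algebra.IsPushout A (Localization.Away g) B (Localization.Away (φ.toRingHom g)) :=
      Algebra.IsPushout.symm ‹_›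
    exact iff_of_respectsIso hP (algebraMap (Localization.Away g) (Localization.Away g ⊗[A] B))
      (Localization.awayMap φ.toRingHom g)
      (Algebra.IsPushout.equiv A (Localization.Away g) B (Localization.Away (φ.toRingHom g))).toRingEquiv
      (RingHom.ext fun x => by
        show Algebra.IsPushout.equiv A (Localization.Away g) B (Localization.Away (φ.toRingHom g)) (algebraMap _ _ x) = _
        rw [AlgEquiv.commutes]
        rfl)
  · letI : Algebra (R' ⊗[R] A) (R' ⊗[R] B) := (Algebra.TensorProduct.map (AlgHom.id R R') φ).toRingHom.toAlgebra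
    letI : Algebra A (R' ⊗[R] B) := ((algebraMap B (R' ⊗[R] B)).comp φ.toRingHom).toAlgebra
    haveI : IsScalarTower A B (R' ⊗[R] B) := IsScalarTower.of_algebraMap_eq fun _ => rfl
    haveI : IsScalarTower A (R' ⊗[R] A) (R' ⊗[R] B) := IsScalarTower.of_algebraMap_eq fun a => by
      show _ = Algebra.TensorProduct.map (AlgHom.id R R') φ ((1 : R') ⊗ₜ[R] a)
      rw [Algebra.TensorProduct.map_tmul]
      rfl
    haveI : IsScalarTower R' (R' ⊗[R] A) (R' ⊗[R] B) := IsScalarTower.of_algebraMap_eq fun r => by
      show _ = Algebra.TensorProduct.map (AlgHom.id R R') φ (r ⊗ₜ[R] (1 : A))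
      rw [Algebra.TensorProduct.map_tmul, map_one]
      rfl
    haveI : IsScalarTower R (R' ⊗[R] A) (R' ⊗[R] B) := IsScalarTower.of_algebraMap_eq fun r =>
      ((Algebra.TensorProduct.map (AlgHom.id R R') φ).commutes r).symm
    haveI h1 : Algebra.IsPushout R A R' (R' ⊗[R] A) := Algebra.IsPushout.symm inferInstance
    haveI h2 : Algebra.IsPushout R B R' (R' ⊗[R] B) := Algebra.IsPushout.symm inferInstance
    haveI : Algebra.IsPushout A B (R' ⊗[R] A) (R' ⊗[R] B) :=
      (Algebra.IsPushout.comp_iff (R := R) (S := A) (T := B) (R' := R') (S' := R' ⊗[R] A)).1 h2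
    haveI : Algebra.IsPushout A (R' ⊗[R] A) B (R' ⊗[R] B) := Algebra.IsPushout.symm ‹_›
    exact iff_of_respectsIso hP (algebraMap (R' ⊗[R] A) ((R' ⊗[R] A) ⊗[A] B))
      (Algebra.TensorProduct.map (AlgHom.id R R') φ).toRingHom
      (Algebra.IsPushout.equiv A (R' ⊗[R] A) B (R' ⊗[R] B)).toRingEquiv
      (RingHom.ext fun x => by
        show Algebra.IsPushout.equiv A (R' ⊗[R] A) B (R' ⊗[R] B) (algebraMap _ _ x) = _
        rw [AlgEquiv.commutes]
        rfl)

end Groth.Agent.GlueH7
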