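import Groth.Agent.Lib.GlueH7.Flat
import Mathlib.Algebra.Module.LocalizedModule.IsLocalization

/-!
Existence of the glued module (Beauville–Laszlo).
-/

universe u

open TensorProduct

namespace Groth.Agent.GlueH7

variable {R R' : Type u} [CommRing R] [CommRing R'] [Algebra R R'] {f : R}
  {M' : Type u} [AddCommGroup M'] [Module R M'] [Module R' M'] [IsScalarTower R R' M']
  {M₁ : Type u} [AddCommGroup M₁] [Module R M₁]
  {M : Type u} [AddCommGroup M] [Module R M]

/-- `M` is the module of pairs `(x, y)` with `β x = 1 ⊗ y`. -/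
structure GlueData (β : M' →ₗ[R'] R' ⊗[R] M₁) (p₁ : M →ₗ[R] M') (p₂ : M →ₗ[R] M₁) : Prop where
  comm : ∀ m, β (p₁ m) = (1 : R') ⊗ₜ[R] p₂ m
  inj : ∀ m, p₁ m = 0 → p₂ m = 0 → m = 0
  surj : ∀ x y, β x = (1 : R') ⊗ₜ[R] y → ∃ m, p₁ m = x ∧ p₂ m = y

variable {β : M' →ₗ[R'] R' ⊗[R] M₁} {p₁ : M →ₗ[R] M'} {p₂ : M →ₗ[R] M₁}
  [IsLocalizedModule (Submonoid.powers (algebraMap R R' f)) β]

omit [IsLocalizedModule (Submonoid.powers (algebraMap R R' f)) β] in
theorem pow_smul_injective (hf : Function.Bijective fun x : M₁ => f • x) (n : ℕ) :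
    Function.Bijective fun x : M₁ => f ^ n • x := by
  induction n with
  | zero => exact ⟨fun a b h => by simpa using h, fun y => ⟨y, by simp⟩⟩
  | succ n ih =>
    have : (fun x : M₁ => f ^ (n + 1) • x) = (fun x : M₁ => f ^ n • x) ∘ fun x : M₁ => f • x := by
      ext x; simp [pow_succ, mul_smul]
    rw [this]
    exact ih.comp hf

theorem exists_loc (x : R' ⊗[R] M₁) : ∃ (n : ℕ) (x' : M'), f ^ n • x = β x' := by
  obtain ⟨⟨x', ⟨_, n, rfl⟩⟩, h⟩ := IsLocalizedModule.surj (Submonoid.powers (algebraMap R R' f)) β x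
  refine ⟨n, x', ?_⟩
  rw [← IsScalarTower.algebraMap_smul R' (f ^ n), map_pow]
  exact h

theorem loc_ker {x : M'} (h : β x = 0) : ∃ n, f ^ n • x = 0 := by
  obtain ⟨⟨_, n, rfl⟩, hn⟩ := (IsLocalizedModule.eq_zero_iff (Submonoid.powers (algebraMap R R' f)) β).1 h
  exact ⟨n, by rw [← IsScalarTower.algebraMap_smul R' (f ^ n), map_pow]; exact hn⟩

theorem GlueData.isLocalizedModule (d : GlueData β p₁ p₂) (hf : Function.Bijective fun x : M₁ => f • x) :
    IsLocalizedModule (Submonoid.powers f) p₂ where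
  map_units := by
    rintro ⟨_, n, rfl⟩
    exact (Module.End.isUnit_iff _).2 (pow_smul_injective hf n)
  surj y := by
    obtain ⟨n, x, hx⟩ := exists_loc (β := β) (f := f) ((1 : R') ⊗ₜ[R] y)
    rw [← TensorProduct.tmul_smul] at hx
    obtain ⟨m, -, hm⟩ := d.surj x (f ^ n • y) hx.symm
    exact ⟨⟨m, ⟨f ^ n, n, rfl⟩⟩, hm.symm⟩
  exists_of_eq {a b} h := by
    have h1 : p₂ (a - b) = 0 := by rw [map_sub, h, sub_self]
    obtain ⟨n, hn⟩ := loc_ker (β := β) (f := f) (x := p₁ (a - b)) (by rw [d.comm, h1, TensorProduct.tmul_zero])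
    refine ⟨⟨f ^ n, n, rfl⟩, sub_eq_zero.1 (d.inj _ ?_ ?_)⟩
    · show p₁ (f ^ n • a - f ^ n • b) = 0
      rw [← smul_sub, map_smul, hn]
    · show p₂ (f ^ n • a - f ^ n • b) = 0
      rw [← smul_sub, map_smul, h1, smul_zero]

theorem GlueData.lift_comm (d : GlueData β p₁ p₂) (z : R' ⊗[R] M) :
    β (LinearMap.liftBaseChange R' p₁ z) = p₂.lTensor R' z := by
  induction z using TensorProduct.induction_on with
  | zero => simp
  | tmul r m =>
    rw [LinearMap.liftBaseChange_tmul, map_smul, d.comm, TensorProduct.smul_tmul', smul_eq_mul, mul_one,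
      LinearMap.lTensor_tmul]
  | add a b ha hb => simp only [map_add, ha, hb]

theorem GlueData.bijective (d : GlueData β p₁ p₂) (h : EtGlue.IsGlueingPair R R' f)
    (hf : Function.Bijective fun x : M₁ => f • x) :
    Function.Bijective (LinearMap.liftBaseChange R' p₁) := by
  classical
  have hloc := d.isLocalizedModule hf
  constructor
  · rw [injective_iff_map_eq_zero]
    intro z hz
    have h0 : p₂.lTensor R' z = 0 := by rw [← d.lift_comm, hz, map_zero]
    let e := IsLocalizedModule.iso (Submonoid.powers f) p₂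
    have he : e.toLinearMap.comp (LocalizedModule.mkLinearMap (Submonoid.powers f) M) = p₂ :=
      LinearMap.ext fun m => IsLocalizedModule.iso_mk_one (Submonoid.powers f) p₂ m
    rw [← he, LinearMap.lTensor_comp, LinearMap.comp_apply] at h0
    have h1 : (LocalizedModule.mkLinearMap (Submonoid.powers f) M).lTensor R' z = 0 :=
      (LinearEquiv.lTensor R' e).injective (by rw [map_zero]; exact h0)
    obtain ⟨n, hn⟩ := torsion_of_lTensor_mk h1
    obtain ⟨t, ⟨k, hk⟩, rfl⟩ := exists_torsion_of_glueingPair h hn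
    have ht2 : p₂ t = 0 := (pow_smul_injective hf k).1 (by
      show f ^ k • p₂ t = f ^ k • (0 : M₁)
      rw [← map_smul, hk, map_zero, smul_zero])
    have ht1 : p₁ t = 0 := by simpa using hz
    rw [d.inj t ht1 ht2, TensorProduct.tmul_zero]
  · intro x
    obtain ⟨F, hF⟩ := TensorProduct.exists_finset (β x)
    have hi : ∀ q ∈ F, ∃ n : ℕ, ∀ N, n ≤ N → ∃ m : M, p₂ m = f ^ N • q.2 := by
      intro q _
      obtain ⟨n, x', hx'⟩ := exists_loc (β := β) (f := f) ((1 : R') ⊗ₜ[R] q.2)
      rw [← TensorProduct.tmul_smul] at hx'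
      obtain ⟨m, -, hm⟩ := d.surj x' _ hx'.symm
      exact ⟨n, fun N hN => ⟨f ^ (N - n) • m, by
        rw [map_smul, hm, smul_smul, ← pow_add, Nat.sub_add_cancel hN]⟩⟩
    choose! nq hnq using hi
    let N := F.sup nq
    choose! mq hmq using fun q (hq : q ∈ F) => hnq q hq N (Finset.le_sup hq)
    choose s r' hsr using fun q : R' × M₁ => exists_eq_add h.1 N q.1
    let y := ∑ q ∈ F, s q • q.2
    let w := ∑ q ∈ F, (r' q) ⊗ₜ[R] mq q
    have key : β (x - LinearMap.liftBaseChange R' p₁ w) = (1 : R') ⊗ₜ[R] y := by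
      rw [map_sub, d.lift_comm, hF, map_sum, TensorProduct.tmul_sum, ← Finset.sum_sub_distrib]
      refine Finset.sum_congr rfl fun q hq => ?_
      rw [LinearMap.lTensor_tmul, hmq q hq, TensorProduct.tmul_smul, ← TensorProduct.smul_tmul (s q),
        ← Algebra.algebraMap_eq_smul_one, TensorProduct.smul_tmul', Algebra.smul_def, map_pow,
        ← TensorProduct.sub_tmul]
      congr 1
      linear_combination hsr q
    obtain ⟨m, hm, -⟩ := d.surj _ _ key
    exact ⟨(1 : R') ⊗ₜ[R] m + w, by rw [map_add, LinearMap.liftBaseChange_tmul, one_smul, hm, sub_add_cancel]⟩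

theorem GlueData.isGlueable (d : GlueData β p₁ p₂) (h : EtGlue.IsGlueingPair R R' f)
    (hf : Function.Bijective fun x : M₁ => f • x) : EtGlue.IsGlueable R R' f M := by
  refine (isGlueable_iff h.1).2 ⟨fun t ⟨k, hk⟩ ht => d.inj t ?_ ?_,
    fun x ⟨n, hn⟩ => exists_torsion_of_glueingPair h hn⟩
  · have := congrArg (LinearMap.liftBaseChange R' p₁) ht
    simpa using this
  · exact (pow_smul_injective hf k).1 (by
      show f ^ k • p₂ t = f ^ k • (0 : M₁)
      rw [← map_smul, hk, map_zero, smul_zero])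

end Groth.Agent.GlueH7
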