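import Groth.Agent.Lib.GlueH7.Basic
import Mathlib.RingTheory.TensorProduct.Finite
import Mathlib.LinearAlgebra.TensorProduct.Finiteness
import Mathlib.Algebra.Module.LocalizedModule.Submodule

/-!
Glueable modules and `f`-power torsion.
-/

universe u

open TensorProduct

namespace Groth.Agent.GlueH7

variable {R R' : Type u} [CommRing R] [CommRing R'] [Algebra R R'] {f : R}
  {M : Type u} [AddCommGroup M] [Module R M]

theorem mk_eq_zero_iff {m : M} :
    LocalizedModule.mkLinearMap (Submonoid.powers f) M m = 0 ↔ ∃ n, f ^ n • m = 0 := by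
  rw [IsLocalizedModule.eq_zero_iff (Submonoid.powers f)]
  constructor
  · rintro ⟨⟨_, n, rfl⟩, h⟩; exact ⟨n, h⟩
  · rintro ⟨n, h⟩; exact ⟨⟨f ^ n, n, rfl⟩, h⟩

theorem mk_eq_iff {m m' : M} :
    LocalizedModule.mkLinearMap (Submonoid.powers f) M m =
      LocalizedModule.mkLinearMap (Submonoid.powers f) M m' ↔ ∃ n, f ^ n • m = f ^ n • m' := by
  rw [← sub_eq_zero, ← map_sub, mk_eq_zero_iff]
  simp only [smul_sub, sub_eq_zero]

theorem exists_pow_smul_eq (y : LocalizedModule (Submonoid.powers f) M) :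
    ∃ (n : ℕ) (m : M), f ^ n • y = LocalizedModule.mkLinearMap (Submonoid.powers f) M m := by
  obtain ⟨⟨m, ⟨_, n, rfl⟩⟩, h⟩ :=
    IsLocalizedModule.surj (Submonoid.powers f) (LocalizedModule.mkLinearMap (Submonoid.powers f) M) y
  exact ⟨n, m, h⟩

theorem eq_of_pow_smul_eq {y y' : LocalizedModule (Submonoid.powers f) M} {n : ℕ}
    (h : f ^ n • y = f ^ n • y') : y = y' :=
  ((Module.End.isUnit_iff _).1 (IsLocalizedModule.map_units
    (LocalizedModule.mkLinearMap (Submonoid.powers f) M) (⟨f ^ n, n, rfl⟩ : Submonoid.powers f))).1 h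

theorem tensorOfLoc_mk (m : M) :
    EtGlue.tensorOfLoc R R' f M (LocalizedModule.mkLinearMap (Submonoid.powers f) M m) =
      EtGlue.locOfTensor R R' f M ((1 : R') ⊗ₜ[R] m) :=
  IsLocalizedModule.map_apply _ _ _ _ m

theorem isGlueable_iff (hq : EtGlue.QuotPowBijective R R' f) :
    EtGlue.IsGlueable R R' f M ↔
      ((∀ m : M, (∃ n : ℕ, f ^ n • m = 0) → (1 : R') ⊗ₜ[R] m = 0 → m = 0) ∧
       (∀ x : R' ⊗[R] M, (∃ n : ℕ, f ^ n • x = 0) → ∃ m : M, (∃ n : ℕ, f ^ n • m = 0) ∧ (1 : R') ⊗ₜ[R] m = x)) := by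
  constructor
  · rintro ⟨hinj, hmid⟩
    refine ⟨fun m hm h1 => hinj (Prod.ext ?_ ?_), fun x hx => ?_⟩
    · show (1 : R') ⊗ₜ[R] m = (1 : R') ⊗ₜ[R] (0 : M)
      rw [h1, TensorProduct.tmul_zero]
    · show LocalizedModule.mkLinearMap _ M m = LocalizedModule.mkLinearMap _ M 0
      rw [mk_eq_zero_iff.2 hm, map_zero]
    · obtain ⟨m, h1, h2⟩ := hmid x 0 (by rw [map_zero]; exact mk_eq_zero_iff.2 hx)
      exact ⟨m, mk_eq_zero_iff.1 h2, h1⟩
  · rintro ⟨hinj, hsurj⟩
    refine ⟨fun a b hab => ?_, fun x y hxy => ?_⟩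
    · have h1 : (1 : R') ⊗ₜ[R] a = (1 : R') ⊗ₜ[R] b := congrArg Prod.fst hab
      have h2 := congrArg Prod.snd hab
      rw [← sub_eq_zero]
      refine hinj _ ?_ (by rw [TensorProduct.tmul_sub, h1, sub_self])
      obtain ⟨n, hn⟩ := mk_eq_iff.1 h2
      exact ⟨n, by rw [smul_sub, hn, sub_self]⟩
    · obtain ⟨n, m, hnm⟩ := exists_pow_smul_eq y
      have h1 : EtGlue.locOfTensor R R' f M (f ^ n • x) = EtGlue.locOfTensor R R' f M ((1 : R') ⊗ₜ[R] m) := by
        rw [map_smul, hxy, ← map_smul, hnm, tensorOfLoc_mk]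
      obtain ⟨k, hk⟩ := mk_eq_iff.1 h1
      rw [smul_smul, ← pow_add, ← TensorProduct.tmul_smul] at hk
      obtain ⟨m₀, hm₀⟩ := mem_smul_of_one_tmul hq hk.symm
      obtain ⟨t, ht, htx⟩ := hsurj (x - (1 : R') ⊗ₜ[R] m₀)
        ⟨k + n, by rw [smul_sub, hk, ← TensorProduct.tmul_smul, hm₀, sub_self]⟩
      refine ⟨m₀ + t, by rw [TensorProduct.tmul_add, htx, add_sub_cancel], ?_⟩
      rw [map_add, mk_eq_zero_iff.2 ht, add_zero]
      apply eq_of_pow_smul_eq (n := k + n)
      rw [← map_smul, ← hm₀, map_smul, ← hnm, smul_smul, pow_add]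

theorem subsingleton_of_pair (hq : EtGlue.QuotPowBijective R R' f)
    [Subsingleton (R' ⊗[R] M)] (hloc : ∀ m : M, ∃ n, f ^ n • m = 0) : Subsingleton M :=
  subsingleton_of_tensor_of_loc hq hloc

/-- A submodule containing `f`-power multiples of everything and generating `R' ⊗ M` is everything. -/
theorem eq_top_of_pair (hq : EtGlue.QuotPowBijective R R' f) (M₀ : Submodule R M)
    (h1 : ∀ x : R' ⊗[R] M, x ∈ LinearMap.range (M₀.subtype.lTensor R'))
    (h2 : ∀ m : M, ∃ n, f ^ n • m ∈ M₀) : M₀ = ⊤ := by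
  haveI : Subsingleton (R' ⊗[R] (M ⧸ M₀)) := by
    refine subsingleton_iff_forall_eq 0 |>.2 fun x => ?_
    obtain ⟨y, rfl⟩ := LinearMap.lTensor_surjective R' M₀.mkQ_surjective x
    obtain ⟨z, rfl⟩ := h1 y
    rw [← LinearMap.comp_apply, ← LinearMap.lTensor_comp,
      show M₀.mkQ.comp M₀.subtype = 0 from (LinearMap.exact_subtype_mkQ M₀).linearMap_comp_eq_zero,
      LinearMap.lTensor_zero, LinearMap.zero_apply]
  haveI := subsingleton_of_pair (M := M ⧸ M₀) hq fun q => by
    obtain ⟨m, rfl⟩ := M₀.mkQ_surjective q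
    obtain ⟨n, hn⟩ := h2 m
    exact ⟨n, by rw [← map_smul, Submodule.mkQ_apply, Submodule.Quotient.mk_eq_zero]; exact hn⟩
  exact Submodule.Quotient.subsingleton_iff.1 inferInstance

theorem finite_of_pair (hq : EtGlue.QuotPowBijective R R' f) [Module.Finite R' (R' ⊗[R] M)]
    [Module.Finite (Localization.Away f) (LocalizedModule (Submonoid.powers f) M)] : Module.Finite R M := by
  classical
  obtain ⟨a, v, hv⟩ := Module.Finite.exists_fin (R := R') (M := R' ⊗[R] M)
  choose S hS using fun i => TensorProduct.exists_finset (v i)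
  obtain ⟨b, w, hw⟩ := Module.Finite.exists_fin (R := Localization.Away f)
    (M := LocalizedModule (Submonoid.powers f) M)
  choose k g hg using fun i => exists_pow_smul_eq (w i)
  let s : Finset M := (Finset.univ.biUnion fun i => (S i).image Prod.snd) ∪ Finset.univ.image g
  refine ⟨⟨s, eq_top_of_pair hq _ (fun x => ?_) (fun m => ?_)⟩⟩
  · have hx : x ∈ Submodule.span R' (Set.range v) := hv ▸ Submodule.mem_top
    have : x ∈ LinearMap.range ((Submodule.span R (s : Set M)).subtype.baseChange R') := by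
      refine (Submodule.span_le.2 ?_) hx
      rintro _ ⟨i, rfl⟩
      rw [hS i]
      refine Submodule.sum_mem _ fun q hq' => ⟨q.1 ⊗ₜ[R] ⟨q.2, Submodule.subset_span ?_⟩, rfl⟩
      simp only [s, Finset.coe_union, Finset.coe_biUnion, Finset.coe_image]
      exact Or.inl (Set.mem_biUnion (Finset.mem_univ i) ⟨q, hq', rfl⟩)
    exact this
  · have hm : LocalizedModule.mkLinearMap (Submonoid.powers f) M m ∈
        Submodule.span (Localization.Away f) (Set.range w) := hw ▸ Submodule.mem_top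
    have key : ∀ y ∈ Submodule.span (Localization.Away f) (Set.range w), ∃ n, ∃ m₀ ∈ Submodule.span R (s : Set M),
        f ^ n • y = LocalizedModule.mkLinearMap (Submonoid.powers f) M m₀ := by
      intro y hy
      induction hy using Submodule.span_induction with
      | mem z hz =>
        obtain ⟨i, rfl⟩ := hz
        exact ⟨k i, g i, Submodule.subset_span (by simp [s]), hg i⟩
      | zero => exact ⟨0, 0, zero_mem _, by simp⟩
      | add u u' _ _ hu hu' =>
        obtain ⟨n, z, hz, hnz⟩ := hu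
        obtain ⟨n', z', hz', hnz'⟩ := hu'
        refine ⟨n + n', f ^ n' • z + f ^ n • z', add_mem (Submodule.smul_mem _ _ hz) (Submodule.smul_mem _ _ hz'), ?_⟩
        rw [map_add, map_smul, map_smul, ← hnz, ← hnz', smul_smul, smul_smul, ← pow_add, ← pow_add,
          add_comm n' n, smul_add]
      | smul c u _ hu =>
        obtain ⟨n, z, hz, hnz⟩ := hu
        obtain ⟨⟨r, ⟨_, j, rfl⟩⟩, hr⟩ := IsLocalization.surj (Submonoid.powers f) c
        refine ⟨j + n, r • z, Submodule.smul_mem _ _ hz, ?_⟩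
        rw [map_smul, ← hnz, ← IsScalarTower.algebraMap_smul (Localization.Away f) (f ^ (j + n)),
          ← IsScalarTower.algebraMap_smul (Localization.Away f) r, ← hr,
          ← IsScalarTower.algebraMap_smul (Localization.Away f) (f ^ n), smul_smul, smul_smul, pow_add, map_mul]
        congr 1
        ring
    obtain ⟨n, m₀, hm₀, hn⟩ := key _ hm
    rw [← map_smul] at hn
    obtain ⟨j, hj⟩ := mk_eq_iff.1 hn
    exact ⟨j + n, by rw [pow_add, mul_smul, hj]; exact Submodule.smul_mem _ _ hm₀⟩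

end Groth.Agent.GlueH7
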