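import Groth.Agent.Lib.GlueH7.Flat
import Groth.Agent.Lib.TorH7.Basic
import Groth.Prelude.Def_DRing3

/-!
Vanishing of `Tor₁` against the ring of a glueing pair.
-/

universe u

open TensorProduct

namespace Groth.Agent.GlueH7

variable {R R' : Type u} [CommRing R] [CommRing R'] [Algebra R R'] {f : R}

/-- A torsion submodule of `R` stays injective after tensoring with `R'`. -/
theorem lTensor_injective_of_torsion_ker (h : EtGlue.IsGlueingPair R R' f) (K : Submodule R R)
    (hK : ∀ x ∈ K, ∃ n, f ^ n • x = 0) : Function.Injective (K.subtype.lTensor R') := by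
  have hK' : ∀ x : K, ∃ n, f ^ n • x = 0 := fun x => by
    obtain ⟨n, hn⟩ := hK x x.2
    exact ⟨n, Subtype.ext hn⟩
  rw [injective_iff_map_eq_zero]
  intro z hz
  obtain ⟨x, rfl⟩ := (mk_bijective_of_torsion h.1 hK').2 z
  have h1 := injPair_submodule (R' := R') h K x (hK' x)
  have hx : algebraMap R R' (x : R) = 0 := by
    have := congrArg (TensorProduct.rid R R') hz
    simpa [Algebra.smul_def] using this
  have hx0 : (x : R) = 0 := h.2.1 (Prod.ext (by
      show algebraMap R R' (x : R) = algebraMap R R' 0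
      rw [hx, map_zero]) (by
      show algebraMap R (Localization.Away f) (x : R) = algebraMap R (Localization.Away f) 0
      rw [map_zero, IsLocalization.map_eq_zero_iff (Submonoid.powers f)]
      obtain ⟨n, hn⟩ := hK x x.2
      exact ⟨⟨f ^ n, n, rfl⟩, hn⟩))
  rw [show x = 0 from Subtype.ext hx0, map_zero]

/-- `R' ⊗ (u K) → R' ⊗ P` is injective for the diagonal map `u = (f ^ e i)` on a free module. -/
theorem lTensor_diag_injective (h : EtGlue.IsGlueingPair R R' f) {ι : Type u} (e : ι → ℕ)
    (u : (ι →₀ R) →ₗ[R] (ι →₀ R)) (hu : ∀ (c : ι →₀ R) (i : ι), u c i = f ^ e i * c i)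
    {z : R' ⊗[R] LinearMap.range u} (hz : (LinearMap.range u).subtype.lTensor R' z = 0) : z = 0 := by
  classical
  obtain ⟨w, rfl⟩ := LinearMap.lTensor_surjective R' u.surjective_rangeRestrict z
  have huw : u.lTensor R' w = 0 := by
    rw [← u.subtype_comp_codRestrict (LinearMap.range u) u.mem_range_self, LinearMap.lTensor_comp,
      LinearMap.comp_apply]
    exact hz
  let F := TensorProduct.finsuppScalarRight R R R' ι
  have hcomm : ∀ (v : R' ⊗[R] (ι →₀ R)) (i : ι), F (u.lTensor R' v) i = f ^ e i • F v i := by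
    intro v i
    induction v using TensorProduct.induction_on with
    | zero => simp
    | tmul r c => simp [F, hu, mul_smul]
    | add a b ha hb => simp only [map_add, Finsupp.add_apply, ha, hb, smul_add]
  have ht : ∀ i, ∃ t : R, f ^ e i * t = 0 ∧ algebraMap R R' t = F w i := by
    intro i
    have h0 : f ^ e i • F w i = 0 := by rw [← hcomm, huw, map_zero, Finsupp.zero_apply]
    obtain ⟨m, ⟨k, hk⟩, hm⟩ := exists_torsion_of_glueingPair (M := R) h (n := e i) (z := F w i ⊗ₜ[R] (1 : R))
      (by rw [TensorProduct.smul_tmul', h0, TensorProduct.zero_tmul])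
    have hm' := congrArg (TensorProduct.rid R R') hm
    simp only [TensorProduct.rid_tmul, one_smul] at hm'
    rw [← Algebra.algebraMap_eq_smul_one] at hm'
    refine ⟨m, h.2.1 (Prod.ext ?_ ?_), hm'⟩
    · show algebraMap R R' (f ^ e i * m) = algebraMap R R' 0
      rw [map_mul, map_zero, hm', ← Algebra.smul_def, h0]
    · show algebraMap R (Localization.Away f) (f ^ e i * m) = algebraMap R (Localization.Away f) 0
      rw [map_zero, IsLocalization.map_eq_zero_iff (Submonoid.powers f)]
      refine ⟨⟨f ^ k, k, rfl⟩, ?_⟩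
      show f ^ k * (f ^ e i * m) = 0
      rw [mul_left_comm, show f ^ k * m = 0 from hk, mul_zero]
  choose t ht ht' using ht
  let c : ι →₀ R := Finsupp.onFinset (F w).support (fun i => if i ∈ (F w).support then t i else 0)
    (fun i hi => by by_contra h'; simp [h'] at hi)
  have hcv : ∀ i, c i = if i ∈ (F w).support then t i else 0 := fun _ => rfl
  have hc : (1 : R') ⊗ₜ[R] c = w := F.injective (by
    ext i
    have : F ((1 : R') ⊗ₜ[R] c) i = algebraMap R R' (c i) := by
      simp [F, Algebra.algebraMap_eq_smul_one]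
    rw [this, hcv]
    by_cases hi : i ∈ (F w).support
    · rw [if_pos hi, ht']
    · rw [if_neg hi, map_zero]
      exact (Finsupp.notMem_support_iff.1 hi).symm)
  have huc : u.rangeRestrict c = 0 := Subtype.ext (Finsupp.ext fun i => by
    show u c i = 0
    rw [hu, hcv]
    split
    · exact ht i
    · rw [mul_zero])
  rw [← hc, LinearMap.lTensor_tmul, huc, TensorProduct.tmul_zero]

theorem lTensor_ker_injective_of_torsion_quot (h : EtGlue.IsGlueingPair R R' f)
    {P N : Type u} [AddCommGroup P] [Module R P] [AddCommGroup N] [Module R N] (p : P →ₗ[R] N)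
    (Φ₀ : Submodule R P) (hle : Φ₀ ≤ LinearMap.ker p) (hinj : ∀ z : R' ⊗[R] Φ₀, Φ₀.subtype.lTensor R' z = 0 → z = 0)
    (htor : ∀ q : P ⧸ Φ₀, ∃ n, f ^ n • q = 0) : Function.Injective ((LinearMap.ker p).subtype.lTensor R') := by
  let ι : Φ₀ →ₗ[R] LinearMap.ker p := Submodule.inclusion hle
  let Φ : Submodule R (LinearMap.ker p) := LinearMap.range ι
  let κ : (↥(LinearMap.ker p) ⧸ Φ) →ₗ[R] P ⧸ Φ₀ :=
    Φ.liftQ (Φ₀.mkQ.comp (LinearMap.ker p).subtype) (by
      rintro _ ⟨c, rfl⟩
      exact (Submodule.Quotient.mk_eq_zero _).2 c.2)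
  have hκ : Function.Injective κ := (injective_iff_map_eq_zero _).2 fun q hq => by
    obtain ⟨k, rfl⟩ := Φ.mkQ_surjective q
    exact (Submodule.Quotient.mk_eq_zero _).2 ⟨⟨(k : P), (Submodule.Quotient.mk_eq_zero _).1 hq⟩, rfl⟩
  have htor' : ∀ q : ↥(LinearMap.ker p) ⧸ Φ, ∃ n, f ^ n • q = 0 := fun q => by
    obtain ⟨n, hn⟩ := htor (κ q)
    exact ⟨n, hκ (by rw [map_smul, hn, map_zero])⟩
  rw [injective_iff_map_eq_zero]
  intro z hz
  have h1 : Φ.mkQ.lTensor R' z = 0 := by
    obtain ⟨q, hq⟩ := (mk_bijective_of_torsion h.1 htor').2 (Φ.mkQ.lTensor R' z)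
    have h2 : (1 : R') ⊗ₜ[R] κ q = 0 := by
      have := congrArg (κ.lTensor R') hq
      rw [TensorProduct.mk_apply, LinearMap.lTensor_tmul] at this
      rw [this, ← LinearMap.comp_apply, ← LinearMap.lTensor_comp, Submodule.liftQ_mkQ, LinearMap.lTensor_comp,
        LinearMap.comp_apply, hz, map_zero]
    rw [← hq, show q = 0 from hκ ((mk_bijective_of_torsion h.1 htor).1 (by simpa using h2)), map_zero]
  obtain ⟨y, rfl⟩ : z ∈ LinearMap.range (ι.lTensor R') := by
    obtain ⟨y, hy⟩ := (lTensor_exact R' (LinearMap.exact_subtype_mkQ Φ) Φ.mkQ_surjective z).1 h1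
    obtain ⟨y', hy'⟩ := LinearMap.lTensor_surjective R' (g := ι.rangeRestrict) ι.surjective_rangeRestrict y
    exact ⟨y', by rw [← hy, ← hy', ← LinearMap.comp_apply, ← LinearMap.lTensor_comp, LinearMap.subtype_comp_codRestrict]⟩
  rw [← LinearMap.comp_apply, ← LinearMap.lTensor_comp, Submodule.subtype_comp_inclusion] at hz
  rw [hinj y hz, map_zero]

theorem tor_one_torsion (h : EtGlue.IsGlueingPair R R' f) (N : Type u) [AddCommGroup N] [Module R N]
    (hN : ∀ x : N, ∃ n, f ^ n • x = 0) : Subsingleton (DRing.Tor R 1 R' N) := by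
  classical
  choose e he using hN
  let p : (N →₀ R) →ₗ[R] N := Finsupp.linearCombination R id
  have hp : Function.Surjective p := fun m => ⟨Finsupp.single m 1, by simp [p]⟩
  refine Groth.Agent.TorH7.tor_one_subsingleton p hp ?_
  let u : (N →₀ R) →ₗ[R] (N →₀ R) := Finsupp.linearCombination R (fun x => Finsupp.single x (f ^ e x))
  have hu : ∀ (c : N →₀ R) (i : N), u c i = f ^ e i * c i := by
    intro c i
    induction c using Finsupp.induction_linear with
    | zero => simp
    | add a b ha hb => simp [ha, hb, mul_add]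
    | single j r =>
      by_cases hji : j = i
      · subst hji; simp [u, mul_comm]
      · simp [u, hji]
  have hle : LinearMap.range u ≤ LinearMap.ker p := by
    rintro _ ⟨c, rfl⟩
    rw [LinearMap.mem_ker]
    induction c using Finsupp.induction_linear with
    | zero => simp
    | add a b ha hb => simp [ha, hb]
    | single j r => simp [u, p, mul_smul, he]
  refine lTensor_ker_injective_of_torsion_quot h (P := N →₀ R) p (LinearMap.range u) hle
    (fun z hz => lTensor_diag_injective h e u hu hz) ?_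
  intro q
  obtain ⟨c, rfl⟩ := (LinearMap.range u).mkQ_surjective q
  induction c using Finsupp.induction_linear with
  | zero => exact ⟨0, by simp⟩
  | add a b ha hb =>
    obtain ⟨n, hn⟩ := ha
    obtain ⟨n', hn'⟩ := hb
    exact ⟨n + n', by
      rw [map_add, smul_add, pow_add, mul_smul, mul_smul, smul_comm, hn, smul_zero, hn', smul_zero, add_zero]⟩
  | single j r =>
    refine ⟨e j, ?_⟩
    rw [← map_smul, Submodule.mkQ_apply, Submodule.Quotient.mk_eq_zero]
    exact ⟨Finsupp.single j r, Finsupp.ext fun i => by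
      rw [hu]
      by_cases hji : j = i
      · subst hji; simp
      · simp [hji]⟩

end Groth.Agent.GlueH7
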